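import Groth.Agent.Lib.RegDesc3.Pre
import Groth.Agent.Lib.LCI6.Descent
import Groth.Agent.Lib.QReg26.Basic
import Mathlib.RingTheory.Localization.Submodule

/-!
# Koszul, `H₁` and quasi regular sequences: locality and faithfully flat descent
-/

set_option autoImplicit false
set_option linter.all false
set_option maxHeartbeats 1000000
universe u

open IsLocalRing

namespace GrothLib.RegDesc3


variable {k : RegImm.Kind}

theorem quasi_get_ofFn {A : Type u} [CommRing A] {c : ℕ} {f : Fin c → A}
    (h : CAlgX.IsQuasiRegular (List.ofFn f).get) : CAlgX.IsQuasiRegular f := by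
  have h' := FSeq.cast (k := .quasi) (c' := c) List.length_ofFn.symm (f := (List.ofFn f).get) h
  have e : (List.ofFn f).get ∘ Fin.cast List.length_ofFn.symm = f := by
    funext i
    simp
  rwa [e] at h'

theorem quasi_of_fSeq {A : Type u} [CommRing A] {c : ℕ} {f : Fin c → A} (h : FSeq k f) :
    CAlgX.IsQuasiRegular f := by
  cases k with
  | regular => exact h.elim
  | koszul => exact quasi_get_ofFn (SeqKinds.isQuasiRegular_of_isH1Regular _
      (SeqKinds.isH1Regular_of_isKoszulRegularSeq (List.ofFn f) h))
  | h1 => exact SeqKinds.isQuasiRegular_of_isH1Regular f h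
  | quasi => exact h

/-- In a local ring such a sequence is a minimal system of generators, and so is of the same kind as any
other one of the same length. -/
theorem local_main {A : Type u} [CommRing A] [IsLocalRing A] {c : ℕ} {f : Fin c → A} (hf : FSeq k f)
    (hle : Ideal.span (Set.range f) ≤ maximalIdeal A) :
    (∀ (m : ℕ) (y : Fin m → A), Ideal.span (Set.range y) = Ideal.span (Set.range f) → c ≤ m) ∧
      ∀ y : Fin c → A, Ideal.span (Set.range y) = Ideal.span (Set.range f) → FSeq k y := by
  classical
  have hq := quasi_of_fSeq hf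
  have key : ∀ (m : ℕ) (M : Matrix (Fin m) (Fin c) A) (N : Matrix (Fin c) (Fin m) A),
      (N * M).mulVec f = f → (N.map (residue A)) * (M.map (residue A)) = 1 := by
    intro m M N h
    rw [← Matrix.map_mul]
    ext i j
    have hrel : ∑ t, ((N * M) i t - (1 : Matrix (Fin c) (Fin c) A) i t) * f t = 0 := by
      have h' := congrFun h i
      simp only [Matrix.mulVec, dotProduct] at h'
      simp only [sub_mul, Finset.sum_sub_distrib, h', Matrix.one_apply, ite_mul, one_mul, zero_mul,
        Finset.sum_ite_eq, Finset.mem_univ, if_true, sub_self]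
    have hm := hle (QReg26.mem_of_sum_mul_mem_sq hq _ (by rw [hrel]; exact zero_mem _) j)
    rw [← residue_eq_zero_iff, map_sub, sub_eq_zero] at hm
    rw [Matrix.map_apply, hm, Matrix.one_apply, Matrix.one_apply]
    split_ifs <;> simp
  have mat : ∀ (m : ℕ) (y : Fin m → A), Ideal.span (Set.range y) = Ideal.span (Set.range f) →
      ∃ (M : Matrix (Fin m) (Fin c) A) (N : Matrix (Fin c) (Fin m) A),
        M.mulVec f = y ∧ N.mulVec y = f := by
    intro m y hy
    obtain ⟨M, hM⟩ := QReg26.exists_matrix (f := f) (g := y) fun i => hy ▸ Ideal.subset_span ⟨i, rfl⟩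
    obtain ⟨N, hN⟩ := QReg26.exists_matrix (f := y) (g := f) fun i => hy.symm ▸ Ideal.subset_span ⟨i, rfl⟩
    exact ⟨Matrix.of M, Matrix.of N, funext hM, funext hN⟩
  refine ⟨fun m y hy => ?_, fun y hy => ?_⟩
  · obtain ⟨M, N, hM, hN⟩ := mat m y hy
    have h1 := key m M N (by rw [← Matrix.mulVec_mulVec, hM, hN])
    have h2 := Matrix.rank_mul_le_left (N.map (residue A)) (M.map (residue A))
    rw [h1, Matrix.rank_one, Fintype.card_fin] at h2
    exact h2.trans ((Matrix.rank_le_card_width _).trans (Fintype.card_fin m).le)
  · obtain ⟨M, N, hM, hN⟩ := mat c y hy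
    have h1 := congrArg Matrix.det (key c M N (by rw [← Matrix.mulVec_mulVec, hM, hN]))
    rw [Matrix.det_mul, Matrix.det_one, ← RingHom.mapMatrix_apply, ← RingHom.mapMatrix_apply,
      ← RingHom.map_det, ← RingHom.map_det] at h1
    have hu : IsUnit M.det := by
      by_contra hu
      rw [(residue_eq_zero_iff _).2 ((mem_maximalIdeal _).2 hu), mul_zero] at h1
      exact zero_ne_one h1
    rw [← hM]
    exact FSeq.mulVec hf M hu

/-- Faithfully flat maps reflect the kind of a sequence. -/
theorem fSeq_of_faithfullyFlat {A Q : Type u} [CommRing A] [CommRing Q] [Algebra A Q]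
    [Module.FaithfullyFlat A Q] {c : ℕ} (f : Fin c → A) (h : FSeq k (algebraMap A Q ∘ f)) : FSeq k f := by
  classical
  cases k with
  | regular => exact h
  | koszul =>
    have h' : LCI.IsKoszulRegularSeq Q ((List.ofFn f).map (algebraMap A Q)) := by
      rw [List.map_ofFn]; exact h
    exact LCI6.isKoszulRegularSeq_of_faithfullyFlat (List.ofFn f) h'
  | h1 =>
    intro a ha
    refine RegImm12.mem_of_faithfullyFlat (Q := Q) _ a (Submodule.span_mono ?_ (h _ ?_))
    · rintro _ ⟨i, j, rfl⟩
      refine ⟨_, ⟨i, j, rfl⟩, ?_⟩
      funext l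
      simp only [Pi.sub_apply, map_sub, Function.comp_apply, Pi.single_apply]
      split_ifs <;> simp
    · have := congrArg (algebraMap A Q) ha
      simpa [map_sum, map_mul] using this
  | quasi =>
    intro n P hP heval d
    have hspan : Ideal.span (Set.range (algebraMap A Q ∘ f)) =
        (Ideal.span (Set.range f)).map (algebraMap A Q) := by
      rw [Ideal.map_span, Set.range_comp]
    have h' := h n (MvPolynomial.map (algebraMap A Q) P) (hP.map _) (by
      rw [hspan, ← Ideal.map_pow, MvPolynomial.eval_map, ← MvPolynomial.eval₂_comp]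
      exact Ideal.mem_map_of_mem _ heval) d
    rw [MvPolynomial.coeff_map, hspan] at h'
    rw [← Ideal.comap_map_eq_self_of_faithfullyFlat (B := Q) (Ideal.span (Set.range f))]
    exact h'

/-- The kind of a sequence is a local property at the primes containing it. -/
theorem fSeq_of_localized {A : Type u} [CommRing A] (hk : k ≠ .regular) {c : ℕ} (f : Fin c → A)
    (h : ∀ (P : Ideal A) (_ : P.IsPrime), Ideal.span (Set.range f) ≤ P →
      FSeq k (algebraMap A (Localization.AtPrime P) ∘ f)) : FSeq k f := by
  classical
  cases k with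
  | regular => exact absurd rfl hk
  | koszul =>
    refine GrothLib.KoszulColon.isKoszulRegularSeq_of_localized (List.ofFn f) fun P hP hle => ?_
    rw [List.map_ofFn]
    exact h P inferInstance (by rwa [LCI6.ofList_ofFn] at hle)
  | h1 =>
    intro a ha
    set S := Submodule.span A {v : Fin c → A | ∃ i j : Fin c, v = Pi.single i (f j) - Pi.single j (f i)}
    let colon : Ideal A := S.comap (LinearMap.toSpanSingleton A _ a)
    suffices h1 : (1 : A) ∈ colon by simpa [colon] using h1
    rw [← Ideal.eq_top_iff_one]
    by_contra hne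
    obtain ⟨P, hP, hle⟩ := Ideal.exists_le_maximal _ hne
    haveI := hP.isPrime
    by_cases hf : Ideal.span (Set.range f) ≤ P
    · have h1 := h P inferInstance hf (algebraMap A (Localization.AtPrime P) ∘ a) (by
        have := congrArg (algebraMap A (Localization.AtPrime P)) ha
        simpa [map_sum, map_mul] using this)
      let g := LinearMap.compLeft (Algebra.linearMap A (Localization.AtPrime P)) (Fin c)
      have h2 : algebraMap A (Localization.AtPrime P) ∘ a ∈ Submodule.span (Localization.AtPrime P)
          (g '' {v : Fin c → A | ∃ i j : Fin c, v = Pi.single i (f j) - Pi.single j (f i)}) := by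
        refine Submodule.span_mono ?_ h1
        rintro _ ⟨i, j, rfl⟩
        refine ⟨_, ⟨i, j, rfl⟩, ?_⟩
        funext l
        show algebraMap A (Localization.AtPrime P) ((Pi.single i (f j) - Pi.single j (f i) : Fin c → A) l) = _
        simp only [Pi.sub_apply, map_sub, Function.comp_apply, Pi.single_apply]
        split_ifs <;> simp
      obtain ⟨t, ht⟩ := multiple_mem_span_of_mem_localization_span P.primeCompl (Localization.AtPrime P) _ _ h2
      rw [Submodule.span_image] at ht
      obtain ⟨b, hb, hbt⟩ := ht
      have hex : ∀ l, ∃ w : P.primeCompl, (w : A) * b l = (w : A) * ((t : A) * a l) := by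
        intro l
        refine (IsLocalization.eq_iff_exists P.primeCompl (Localization.AtPrime P)).1 ?_
        have := congrFun hbt l
        rw [map_mul]
        rw [Submonoid.smul_def, Pi.smul_apply, Function.comp_apply, Algebra.smul_def] at this
        exact this
      choose w hw using hex
      have hmem : (∏ l, (w l : A)) * t ∈ colon := by
        have e : ((∏ l, (w l : A)) * t) • a = (∏ l, (w l : A)) • b := by
          funext l
          obtain ⟨d, hd⟩ := Finset.dvd_prod_of_mem (fun l => (w l : A)) (Finset.mem_univ l)
          simp only [Pi.smul_apply, smul_eq_mul, hd]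
          linear_combination (-d) * hw l
        show ((∏ l, (w l : A)) * t) • a ∈ S
        rw [e]
        exact S.smul_mem _ hb
      rcases Ideal.IsPrime.mem_or_mem inferInstance (hle hmem) with h3 | h3
      · obtain ⟨l, -, hl⟩ := Ideal.IsPrime.prod_mem_iff.1 h3
        exact (w l).2 hl
      · exact t.2 h3
    · refine hf (Ideal.span_le.2 ?_)
      rintro _ ⟨j, rfl⟩
      refine hle (?_ : f j • a ∈ S)
      have e : f j • a = ∑ i, a i • (Pi.single i (f j) - Pi.single j (f i) : Fin c → A) := by
        funext l
        simp only [Pi.smul_apply, smul_eq_mul, Finset.sum_apply, Pi.sub_apply, mul_sub, Finset.sum_sub_distrib]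
        rw [Finset.sum_eq_single l (fun i _ hi => by simp [Pi.single_eq_of_ne hi.symm]) (by simp), Pi.single_eq_same]
        by_cases hl : l = j
        · subst hl
          simp only [Pi.single_eq_same, ha, sub_zero]
          ring
        · simp [Pi.single_eq_of_ne hl, mul_comm]
      rw [e]
      exact sum_mem fun i _ => S.smul_mem _ (Submodule.subset_span ⟨i, j, rfl⟩)
  | quasi =>
    intro n P hP heval d
    set J := Ideal.span (Set.range f)
    let colon : Ideal A := Submodule.comap (LinearMap.toSpanSingleton A A (P.coeff d)) J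
    suffices h1 : (1 : A) ∈ colon by simpa [colon] using h1
    rw [← Ideal.eq_top_iff_one]
    by_contra hne
    obtain ⟨𝔪, hm, hle⟩ := Ideal.exists_le_maximal _ hne
    haveI := hm.isPrime
    by_cases hf : J ≤ 𝔪
    · let L := Localization.AtPrime 𝔪
      have hspan : Ideal.span (Set.range (algebraMap A L ∘ f)) = J.map (algebraMap A L) := by
        rw [Ideal.map_span, Set.range_comp]
      have h' := h 𝔪 inferInstance hf n (MvPolynomial.map (algebraMap A L) P) (hP.map _) (by
        rw [hspan, ← Ideal.map_pow, MvPolynomial.eval_map, ← MvPolynomial.eval₂_comp]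
        exact Ideal.mem_map_of_mem _ heval) d
      rw [MvPolynomial.coeff_map, hspan] at h'
      obtain ⟨t, ht, ht'⟩ := (IsLocalization.algebraMap_mem_map_algebraMap_iff 𝔪.primeCompl _ _ _).1 h'
      exact ht (hle (show t • P.coeff d ∈ J from ht'))
    · exact hf fun x hx => hle (show x • P.coeff d ∈ J from J.mul_mem_right _ hx)

end GrothLib.RegDesc3
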