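import Groth.Agent.Lib.RegDesc3.Basic
import Mathlib.RingTheory.Localization.Away.Basic

/-!
# Faithfully flat descent of ideals locally generated by Koszul, `H₁` or quasi regular sequences
-/

set_option autoImplicit false
set_option linter.all false
set_option maxHeartbeats 1000000
universe u

open IsLocalRing

namespace GrothLib.RegDesc3

open GrothLib.LCI6 (numGen)

variable (k : RegImm.Kind)

/-- Near `p` the ideal `I` is generated by a sequence of kind `k`. -/
def KAt {R : Type u} [CommRing R] (I p : Ideal R) : Prop :=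
  ∃ g, g ∉ p ∧ ∃ (c : ℕ) (f : Fin c → Localization.Away g), FSeq k f ∧
    I.map (algebraMap R (Localization.Away g)) = Ideal.span (Set.range f)

variable {k}

theorem KAt.of_model {R : Type u} [CommRing R] {I p : Ideal R} (g : R) (hg : g ∉ p) (B : Type u) [CommRing B]
    [Algebra R B] [IsLocalization.Away g B] {c : ℕ} (f : Fin c → B) (hf : FSeq k f)
    (hI : I.map (algebraMap R B) = Ideal.span (Set.range f)) : KAt k I p := by
  let e : B ≃ₐ[R] Localization.Away g := IsLocalization.algEquiv (Submonoid.powers g) B (Localization.Away g)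
  refine ⟨g, hg, c, e.toRingEquiv.toRingHom ∘ f, hf.map _ (RingHom.Flat.of_bijective e.bijective), ?_⟩
  rw [Set.range_comp, ← Ideal.map_span, ← hI, Ideal.map_map]
  congr 1
  exact RingHom.ext fun x => (e.commutes x).symm

theorem KAt.of_away {R : Type u} [CommRing R] {I p : Ideal R} (h : R) (B : Type u) [CommRing B] [Algebra R B]
    [IsLocalization.Away h B] (q : Ideal B) [q.IsPrime] (hq : q.comap (algebraMap R B) = p)
    (hI : KAt k (I.map (algebraMap R B)) q) : KAt k I p := by
  obtain ⟨g, hg, c, f, hf, hIf⟩ := hI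
  obtain ⟨⟨a, s⟩, hgs⟩ := IsLocalization.surj (Submonoid.powers h) g
  have hs : IsUnit (algebraMap R B s) := IsLocalization.map_units B s
  haveI : p.IsPrime := hq ▸ Ideal.IsPrime.comap _
  have hh : h ∉ p := fun hh => by
    rw [← hq] at hh
    exact Ideal.IsPrime.ne_top inferInstance
      (Ideal.eq_top_of_isUnit_mem q hh (IsLocalization.Away.algebraMap_isUnit h))
  have ha : a ∉ p := fun ha => by
    rw [← hq, Ideal.mem_comap, ← hgs] at ha
    exact Ideal.IsPrime.ne_top inferInstance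
      (Ideal.eq_top_of_isUnit_mem q ((Ideal.IsPrime.mem_or_mem inferInstance ha).resolve_left hg) hs)
  let C := Localization.Away (algebraMap R B a)
  haveI : IsLocalization.Away (a * h) C := IsLocalization.Away.mul B C h a
  have hu : IsUnit (algebraMap B C g) := by
    have h0 : IsUnit (algebraMap B C (g * algebraMap R B s)) := by
      rw [hgs]; exact IsLocalization.Away.algebraMap_isUnit (algebraMap R B a)
    rw [map_mul] at h0
    exact isUnit_of_mul_isUnit_left h0
  let ψ : Localization.Away g →+* C := IsLocalization.Away.lift g hu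
  have hψ : ψ.comp (algebraMap B _) = algebraMap B C := IsLocalization.Away.lift_comp g hu
  letI := ψ.toAlgebra
  haveI : IsScalarTower B (Localization.Away g) C := IsScalarTower.of_algebraMap_eq' hψ.symm
  have hflat : ψ.Flat := (Module.flat_iff_of_isLocalization _ (Submonoid.powers g) _).mpr
    (IsLocalization.flat C (Submonoid.powers (algebraMap R B a)))
  refine KAt.of_model (a * h) (fun hm => (Ideal.IsPrime.mem_or_mem inferInstance hm).elim ha hh) C (ψ ∘ f)
    (hf.map ψ hflat) ?_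
  rw [Set.range_comp, ← Ideal.map_span, ← hIf, Ideal.map_map, Ideal.map_map, hψ, ← IsScalarTower.algebraMap_eq]

theorem exists_atPrime {Q : Type u} [CommRing Q] {I : Ideal Q} (g : Q) {c : ℕ} (f : Fin c → Localization.Away g)
    (hf : FSeq k f) (hI : I.map (algebraMap Q (Localization.Away g)) = Ideal.span (Set.range f))
    (q : Ideal Q) [q.IsPrime] (hg : g ∉ q) :
    ∃ f' : Fin c → Localization.AtPrime q, FSeq k f' ∧
      I.map (algebraMap Q (Localization.AtPrime q)) = Ideal.span (Set.range f') := by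
  have hu : IsUnit (algebraMap Q (Localization.AtPrime q) g) :=
    IsLocalization.map_units (Localization.AtPrime q) (⟨g, hg⟩ : q.primeCompl)
  let ψ : Localization.Away g →+* Localization.AtPrime q := IsLocalization.Away.lift g hu
  letI := ψ.toAlgebra
  haveI : IsScalarTower Q (Localization.Away g) (Localization.AtPrime q) :=
    IsScalarTower.of_algebraMap_eq fun x => (IsLocalization.Away.lift_eq g hu x).symm
  have hflat : ψ.Flat := (Module.flat_iff_of_isLocalization _ (Submonoid.powers g) _).mpr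
    (IsLocalization.flat (Localization.AtPrime q) q.primeCompl)
  refine ⟨ψ ∘ f, hf.map ψ hflat, ?_⟩
  rw [Set.range_comp, ← Ideal.map_span, ← hI, Ideal.map_map, IsLocalization.Away.lift_comp]

theorem numGen_eq {Q : Type u} [CommRing Q] {I : Ideal Q} (g : Q) {c : ℕ} (f : Fin c → Localization.Away g)
    (hf : FSeq k f) (hI : I.map (algebraMap Q (Localization.Away g)) = Ideal.span (Set.range f))
    (q : Ideal Q) [q.IsPrime] (hg : g ∉ q) (hIq : I ≤ q) : numGen I q = c := by
  obtain ⟨f', h1, h2⟩ := exists_atPrime g f hf hI q hg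
  have hle : Ideal.span (Set.range f') ≤ maximalIdeal (Localization.AtPrime q) := by
    rw [← h2, ← Localization.AtPrime.map_eq_maximalIdeal]
    exact Ideal.map_mono hIq
  rw [numGen, h2]
  refine le_antisymm (LCI6.spanFinrank_le_of_span_range f') ?_
  obtain ⟨y, hy⟩ := LCI6.exists_span_range_eq (J := Ideal.span (Set.range f')) (Submodule.fg_span (Set.finite_range f'))
  exact (local_main h1 hle).1 _ y hy

/-- The kind descends along flat maps which are surjective on spectra. -/
theorem kAt_descent {P Q : Type u} [CommRing P] [CommRing Q] [Algebra P Q] [Module.Flat P Q]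
    (hk : k ≠ .regular)
    (hsurj : ∀ p : Ideal P, ∀ _ : p.IsPrime, ∃ q : Ideal Q, q.IsPrime ∧ q.comap (algebraMap P Q) = p)
    {I : Ideal P} (hI : I.FG)
    (h : ∀ q : Ideal Q, ∀ _ : q.IsPrime, I.map (algebraMap P Q) ≤ q → KAt k (I.map (algebraMap P Q)) q)
    (p : Ideal P) [p.IsPrime] (hIp : I ≤ p) : KAt k I p := by
  classical
  obtain ⟨r, hr⟩ : ∃ r, r = numGen I p := ⟨_, rfl⟩
  set IQ := I.map (algebraMap P Q) with hIQ
  have hle : ∀ (q : Ideal Q) (p₁ : Ideal P), q.comap (algebraMap P Q) = p₁ → (IQ ≤ q ↔ I ≤ p₁) :=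
    fun q p₁ hq => by rw [← hq]; exact Ideal.map_le_iff_le_comap
  have hloc : ∀ (q q' : Ideal Q) (_ : q.IsPrime) (_ : q'.IsPrime), q ≤ q' → IQ ≤ q →
      numGen IQ q = numGen IQ q' := by
    intro q q' _ _ hqq hq
    obtain ⟨g, hg, c, f, hf, hIf⟩ := h q' inferInstance (hq.trans hqq)
    rw [numGen_eq g f hf hIf q (fun hgq => hg (hqq hgq)) hq, numGen_eq g f hf hIf q' hg (hq.trans hqq)]
  let Z : Set (PrimeSpectrum Q) := {q | IQ ≤ q.asIdeal ∧ numGen IQ q.asIdeal ≠ r}
  have hZ : IsClosed Z := by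
    rw [← isOpen_compl_iff, isOpen_iff_forall_mem_open]
    intro q hq
    by_cases hq0 : IQ ≤ q.asIdeal
    · have hr' : numGen IQ q.asIdeal = r := by
        by_contra hne; exact hq ⟨hq0, hne⟩
      obtain ⟨g, hg, c, f, hf, hIf⟩ := h q.asIdeal inferInstance hq0
      refine ⟨PrimeSpectrum.basicOpen g, fun q₁ hq₁ hq₁Z => hq₁Z.2 ?_,
        (PrimeSpectrum.basicOpen g).2, hg⟩
      rw [numGen_eq g f hf hIf q₁.asIdeal hq₁ hq₁Z.1, ← numGen_eq g f hf hIf q.asIdeal hg hq0, hr']
    · obtain ⟨a, ha, haq⟩ := Set.not_subset.mp hq0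
      exact ⟨PrimeSpectrum.basicOpen a, fun q₁ hq₁ hq₁Z => hq₁ (hq₁Z.1 ha),
        (PrimeSpectrum.basicOpen a).2, haq⟩
  have hcl : IsClosed (PrimeSpectrum.comap (algebraMap P Q) '' Z) := by
    refine PrimeSpectrum.isClosed_image_of_stableUnderSpecialization _ _ hZ ?_
    rintro p₁ p₂ hspec ⟨q₁, ⟨hq₁, hne⟩, rfl⟩
    obtain ⟨q₂, hq₂, hqp⟩ := hsurj p₂.asIdeal inferInstance
    haveI : q₂.LiesOver p₂.asIdeal := ⟨hqp.symm⟩
    have hle' : (PrimeSpectrum.comap (algebraMap P Q) q₁).asIdeal ≤ p₂.asIdeal :=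
      (PrimeSpectrum.le_iff_specializes _ _).mpr hspec
    haveI := hq₂
    obtain ⟨q₁', hq₁le, hq₁p, hq₁o⟩ := Ideal.exists_ideal_le_liesOver_of_le q₂ hle'
    refine ⟨⟨q₂, hq₂⟩, ⟨?_, ?_⟩, PrimeSpectrum.ext hqp⟩
    · exact (hle q₂ _ hqp).mpr (((hle q₁.asIdeal _ rfl).mp hq₁).trans hle')
    · have h1 : IQ ≤ q₁' := (hle q₁' _ hq₁o.over.symm).mpr ((hle q₁.asIdeal _ rfl).mp hq₁)
      show numGen IQ q₂ ≠ r
      rw [← hloc q₁' q₂ hq₁p hq₂ hq₁le h1, LCI6.numGen_map_eq hI q₁' _ hq₁o.over.symm]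
      exact fun h => hne ((LCI6.numGen_map_eq hI q₁.asIdeal _ rfl).trans h)
  have hpZ : (⟨p, inferInstance⟩ : PrimeSpectrum P) ∉ PrimeSpectrum.comap (algebraMap P Q) '' Z := by
    rintro ⟨q, ⟨-, hne⟩, hqp⟩
    exact hne ((LCI6.numGen_map_eq hI q.asIdeal p (congrArg PrimeSpectrum.asIdeal hqp)).trans hr.symm)
  obtain ⟨U, hU⟩ : ∃ g : P, g ∉ p ∧ ∀ p₁ : PrimeSpectrum P, g ∉ p₁.asIdeal →
      p₁ ∉ PrimeSpectrum.comap (algebraMap P Q) '' Z := by
    obtain ⟨V, ⟨g, rfl⟩, hgp, hgV⟩ := PrimeSpectrum.isTopologicalBasis_basic_opens.exists_subset_of_mem_open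
      (show (⟨p, inferInstance⟩ : PrimeSpectrum P) ∈ (PrimeSpectrum.comap (algebraMap P Q) '' Z)ᶜ from hpZ)
      hcl.isOpen_compl
    exact ⟨g, hgp, fun p₁ hp₁ => hgV hp₁⟩
  obtain ⟨y, hy⟩ : ∃ y : Fin r → Localization.AtPrime p, Ideal.span (Set.range y) = I.map (algebraMap P _) := by
    rw [hr]; exact LCI6.exists_span_range_eq (hI.map (algebraMap P (Localization.AtPrime p)))
  have hclear : ∀ i, ∃ (a : P) (s : P), a ∈ I ∧ s ∉ p ∧
      algebraMap P (Localization.AtPrime p) a = algebraMap P _ s * y i := by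
    intro i
    have hi : y i ∈ I.map (algebraMap P (Localization.AtPrime p)) := hy ▸ Ideal.subset_span ⟨i, rfl⟩
    obtain ⟨⟨⟨a, ha⟩, s⟩, hs⟩ := (IsLocalization.mem_map_algebraMap_iff p.primeCompl _).mp hi
    exact ⟨a, s, ha, s.2, by rw [← hs, mul_comm]⟩
  choose x s hx hs hxs using hclear
  have hgen : ∀ a ∈ I, ∃ t, t ∉ p ∧ t * a ∈ Ideal.span (Set.range x) := by
    intro a ha
    have : algebraMap P (Localization.AtPrime p) a ∈
        (Ideal.span (Set.range x)).map (algebraMap P (Localization.AtPrime p)) := by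
      refine (hy.symm.trans_le (Ideal.span_le.mpr ?_)) (Ideal.mem_map_of_mem _ ha)
      rintro _ ⟨i, rfl⟩
      have hu : IsUnit (algebraMap P (Localization.AtPrime p) (s i)) :=
        IsLocalization.map_units _ (⟨s i, hs i⟩ : p.primeCompl)
      rw [SetLike.mem_coe, show y i = ↑hu.unit⁻¹ * algebraMap P _ (x i) by
        rw [hxs, ← mul_assoc, IsUnit.val_inv_mul, one_mul]]
      exact Ideal.mul_mem_left _ _ (Ideal.mem_map_of_mem _ (Ideal.subset_span ⟨i, rfl⟩))
    obtain ⟨t, ht, ht'⟩ := (IsLocalization.algebraMap_mem_map_algebraMap_iff p.primeCompl _ _ _).mp this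
    exact ⟨t, ht, ht'⟩
  obtain ⟨F, hF⟩ := hI
  choose! t ht ht' using hgen
  let g := U * ∏ a ∈ F, t a
  have hgp : g ∉ p := fun hg => by
    rcases (Ideal.IsPrime.mem_or_mem inferInstance hg) with h1 | h1
    · exact hU.1 h1
    · obtain ⟨a, haF, ha⟩ := (Ideal.IsPrime.prod_mem_iff).mp h1
      exact ht a (hF ▸ Ideal.subset_span haF) ha
  let B := Localization.Away g
  let xB : Fin r → B := fun i => algebraMap P B (x i)
  have hIB : I.map (algebraMap P B) = Ideal.span (Set.range xB) := by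
    refine le_antisymm ?_ (Ideal.span_le.mpr ?_)
    · refine Ideal.map_le_iff_le_comap.mpr (hF.ge.trans (Ideal.span_le.mpr fun a haF => ?_))
      show algebraMap P B a ∈ Ideal.span (Set.range xB)
      have hdiv : t a ∣ g := (Finset.dvd_prod_of_mem t haF).mul_left U
      have hu : IsUnit (algebraMap P B (t a)) :=
        isUnit_of_dvd_unit (map_dvd _ hdiv) (IsLocalization.Away.algebraMap_isUnit g)
      have hm := Ideal.mem_map_of_mem (algebraMap P B) (ht' a (hF ▸ Ideal.subset_span haF))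
      rw [map_mul, Ideal.map_span, ← Set.range_comp] at hm
      exact (Ideal.unit_mul_mem_iff_mem _ hu).mp hm
    · rintro _ ⟨i, rfl⟩
      exact Ideal.mem_map_of_mem _ (hx i)
  refine ⟨g, hgp, r, xB, fSeq_of_localized hk xB fun P₀ _ hP₀ => ?_, hIB⟩
  set p₁ := P₀.comap (algebraMap P B) with hp₁
  have hIp₁ : I ≤ p₁ := Ideal.map_le_iff_le_comap.mp (hIB.trans_le hP₀)
  have hgp₁ : g ∉ p₁ := fun hg => (inferInstance : P₀.IsPrime).ne_top
    (Ideal.eq_top_of_isUnit_mem P₀ hg (IsLocalization.Away.algebraMap_isUnit g))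
  have hUp₁ : U ∉ p₁ := fun hU' => hgp₁ (Ideal.mul_mem_right _ _ hU')
  obtain ⟨q₁, hq₁, hqp₁⟩ := hsurj p₁ inferInstance
  haveI := hq₁
  have hIq₁ : IQ ≤ q₁ := (hle q₁ p₁ hqp₁).mpr hIp₁
  have hn : numGen IQ q₁ = r := by
    by_contra hne
    exact hU.2 ⟨p₁, inferInstance⟩ hUp₁ ⟨⟨q₁, hq₁⟩, ⟨hIq₁, hne⟩, PrimeSpectrum.ext hqp₁⟩
  obtain ⟨g', hg', c, f, hf, hIf⟩ := h q₁ hq₁ hIq₁
  obtain ⟨f', hf', hIf'⟩ := exists_atPrime g' f hf hIf q₁ hg'
  obtain rfl : c = r := by rw [← numGen_eq g' f hf hIf q₁ hg' hIq₁, hn]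
  let Qq := Localization.AtPrime q₁
  have hmax : Ideal.span (Set.range f') ≤ maximalIdeal Qq := by
    rw [← hIf', ← Localization.AtPrime.map_eq_maximalIdeal]
    exact Ideal.map_mono hIq₁
  let φ := Localization.localRingHom p₁ q₁ (algebraMap P Q) hqp₁.symm
  letI := φ.toAlgebra
  haveI : IsLocalHom (algebraMap (Localization.AtPrime p₁) Qq) :=
    Localization.isLocalHom_localRingHom p₁ q₁ (algebraMap P Q) hqp₁.symm
  haveI : IsScalarTower P (Localization.AtPrime p₁) Qq :=
    IsScalarTower.of_algebraMap_eq fun a => by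
      show _ = φ (algebraMap P _ a)
      rw [Localization.localRingHom_to_map, ← IsScalarTower.algebraMap_apply]
  haveI : Module.Flat P Qq :=
    haveI := IsLocalization.flat Qq q₁.primeCompl
    Module.Flat.trans P Q _
  haveI : Module.Flat (Localization.AtPrime p₁) Qq :=
    (Module.flat_iff_of_isLocalization _ p₁.primeCompl _).mpr inferInstance
  haveI : Module.FaithfullyFlat (Localization.AtPrime p₁) Qq := Module.FaithfullyFlat.of_flat_of_isLocalHom
  let y' : Fin c → Qq := fun i => algebraMap P Qq (x i)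
  have hy' : Ideal.span (Set.range y') = Ideal.span (Set.range f') := by
    rw [← hIf', hIQ, Ideal.map_map, ← IsScalarTower.algebraMap_eq]
    have hu : IsUnit (algebraMap P Qq g) := by
      rw [IsScalarTower.algebraMap_apply P (Localization.AtPrime p₁) Qq]
      exact (IsLocalization.map_units _ (⟨g, hgp₁⟩ : p₁.primeCompl)).map _
    have := congrArg (Ideal.map (IsLocalization.Away.lift (S := B) g hu)) hIB
    rw [Ideal.map_map, IsLocalization.Away.lift_comp, Ideal.map_span, ← Set.range_comp] at this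
    rw [this]
    congr 2
    funext i
    simp [y', xB, IsLocalization.Away.lift_eq]
  let xp : Fin c → Localization.AtPrime p₁ := fun i => algebraMap P _ (x i)
  have H : FSeq k xp := by
    refine fSeq_of_faithfullyFlat (Q := Qq) xp ?_
    have e : algebraMap (Localization.AtPrime p₁) Qq ∘ xp = y' :=
      funext fun i => (IsScalarTower.algebraMap_apply P (Localization.AtPrime p₁) Qq (x i)).symm
    rw [e]
    exact (local_main hf' hmax).2 y' hy'
  let e₀ := IsLocalization.algEquiv p₁.primeCompl (Localization.AtPrime p₁) (Localization.AtPrime P₀)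
  have := H.map e₀.toRingEquiv.toRingHom (RingHom.Flat.of_bijective e₀.bijective)
  convert this using 1
  funext i
  show algebraMap B _ (algebraMap P B (x i)) = e₀ (algebraMap P _ (x i))
  rw [AlgEquiv.commutes, ← IsScalarTower.algebraMap_apply]

theorem fg_of_kAt {P : Type u} [CommRing P] {I : Ideal P}
    (h : ∀ p : Ideal P, ∀ _ : p.IsPrime, I ≤ p → KAt k I p) : I.FG := by
  refine Ideal.fg_of_localizationSpan {g : P | (I.map (algebraMap P (Localization.Away g))).FG} ?_ fun g => g.2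
  by_contra hne
  obtain ⟨m, hm, hle⟩ := Ideal.exists_le_maximal _ hne
  haveI := hm.isPrime
  by_cases hIm : I ≤ m
  · obtain ⟨g, hg, c, f, -, hl⟩ := h m inferInstance hIm
    exact hg (hle (Ideal.subset_span (show (I.map (algebraMap P (Localization.Away g))).FG by
      rw [hl]; exact Submodule.fg_span (Set.finite_range f))))
  · obtain ⟨g, hgI, hgm⟩ := Set.not_subset.mp hIm
    refine hgm (hle (Ideal.subset_span (show (I.map (algebraMap P (Localization.Away g))).FG from ?_)))
    rw [Ideal.eq_top_of_isUnit_mem _ (Ideal.mem_map_of_mem _ hgI) (IsLocalization.Away.algebraMap_isUnit g)]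
    exact ⟨{1}, by simp⟩

/-- The form used for a finite jointly surjective family of flat maps. -/
theorem kAt_of_flat_cover {P : Type u} [CommRing P] (hk : k ≠ .regular) {ι : Type u} [Finite ι]
    (Q : ι → Type u) [∀ i, CommRing (Q i)] [∀ i, Algebra P (Q i)] [∀ i, Module.Flat P (Q i)]
    (hsurj : ∀ p : Ideal P, ∀ _ : p.IsPrime,
      ∃ (i : ι) (q : Ideal (Q i)), q.IsPrime ∧ q.comap (algebraMap P (Q i)) = p)
    {I : Ideal P}
    (h : ∀ i, ∀ q : Ideal (Q i), ∀ _ : q.IsPrime, I.map (algebraMap P (Q i)) ≤ q →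
      KAt k (I.map (algebraMap P (Q i))) q)
    (p : Ideal P) [p.IsPrime] (hIp : I ≤ p) : KAt k I p := by
  classical
  cases nonempty_fintype ι
  let AA := Π i, Q i
  haveI : Module.Flat P AA :=
    Module.Flat.of_linearEquiv (DFinsupp.linearEquivFunOnFintype (R := P) (M := Q)).symm
  haveI : Module.FaithfullyFlat P AA := by
    refine Module.FaithfullyFlat.of_comap_surjective fun p => ?_
    obtain ⟨i, q, hq, hqp⟩ := hsurj p.asIdeal inferInstance
    refine ⟨PrimeSpectrum.comap (Pi.evalRingHom Q i) ⟨q, hq⟩, PrimeSpectrum.ext ?_⟩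
    show (q.comap (Pi.evalRingHom Q i)).comap (algebraMap P AA) = _
    rw [Ideal.comap_comap]
    exact hqp
  set IA := I.map (algebraMap P AA) with hIA
  have hA : ∀ q : Ideal AA, ∀ _ : q.IsPrime, IA ≤ q → KAt k IA q := by
    intro q hq hle
    obtain ⟨i, q₁, hq₁⟩ := PrimeSpectrum.exists_comap_evalRingHom_eq ⟨q, hq⟩
    have hq₁' : q₁.asIdeal.comap (Pi.evalRingHom Q i) = q := congrArg PrimeSpectrum.asIdeal hq₁
    let e : AA := Pi.single i 1
    letI : Algebra AA (Q i) := (Pi.evalRingHom Q i).toAlgebra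
    haveI : IsLocalization.Away e (Q i) := by
      refine IsLocalization.away_of_isIdempotentElem ?_ (RingHom.ker_evalRingHom Q i) (Function.surjective_eval i)
      show e * e = e
      rw [← Pi.single_mul, one_mul]
    refine KAt.of_away e (Q i) q₁.asIdeal hq₁' ?_
    have e2 : IA.map (algebraMap AA (Q i)) = I.map (algebraMap P (Q i)) := by
      rw [hIA, Ideal.map_map]
      rfl
    rw [e2]
    refine h i q₁.asIdeal inferInstance ?_
    rw [← e2]
    exact Ideal.map_le_iff_le_comap.2 (hle.trans hq₁'.ge)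
  refine kAt_descent hk (Q := AA) (fun p₀ hp₀ => ?_) ?_ hA p hIp
  · obtain ⟨q, hq⟩ := PrimeSpectrum.comap_surjective_of_faithfullyFlat (B := AA) ⟨p₀, hp₀⟩
    exact ⟨q.asIdeal, q.isPrime, congrArg PrimeSpectrum.asIdeal hq⟩
  · obtain ⟨F, hF⟩ := fg_of_kAt hA
    obtain ⟨W, hW, hFW⟩ := Submodule.subset_span_finite_of_subset_span
      (show (F : Set AA) ⊆ Submodule.span AA (algebraMap P AA '' (I : Set P)) from fun a ha => hF.le (Ideal.subset_span ha))
    obtain ⟨T, hTI, hTW⟩ := Finset.subset_set_image_iff.mp hW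
    refine ⟨T, Ideal.map_injective_of_faithfullyFlat (B := AA) (le_antisymm
      (Ideal.map_mono (Ideal.span_le.mpr hTI)) ?_)⟩
    rw [Ideal.map_span, ← Finset.coe_image, hTW]
    exact hF.ge.trans (Submodule.span_le.mpr hFW)

end GrothLib.RegDesc3
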