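import Groth.Agent.Lib.RegImm12.Descend
import Groth.Agent.Lib.RegImm12.PermanenceAlg
import Groth.Agent.Lib.LCI6.LocusScheme
import Groth.Agent.Lib.LCI6.Invariance
import Groth.Agent.Lib.QReg26.Basic

/-! Sequences of kind Koszul, `H_1` or quasi regular, on charts (a light copy of part of `RegImm12.Permanence`). -/

set_option autoImplicit false
set_option linter.all false

universe u

open CategoryTheory CategoryTheory.Limits AlgebraicGeometry Opposite TopologicalSpace

noncomputable section

namespace GrothLib.RegDesc3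

open GrothLib GrothLib.RegImm12

/-- A sequence of kind Koszul, `H_1` or quasi regular. -/
def FSeq (k : RegImm.Kind) {R : Type u} [CommRing R] {c : ℕ} (f : Fin c → R) : Prop :=
  match k with
  | .regular => False
  | .koszul => LCI.IsKoszulRegularSeq R (List.ofFn f)
  | .h1 => CAlgX.IsH1Regular f
  | .quasi => CAlgX.IsQuasiRegular f

section FSeq

variable {k : RegImm.Kind} {R S : Type u} [CommRing R] [CommRing S]

theorem fSeq_of_seq (hk : k ≠ .regular) (rs : List R) (h : k.Seq R rs) : FSeq k rs.get := by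
  cases k with
  | regular => exact absurd rfl hk
  | koszul => show LCI.IsKoszulRegularSeq R (List.ofFn rs.get); rw [List.ofFn_get]; exact h
  | h1 => exact h
  | quasi => exact h

theorem seq_of_fSeq {c : ℕ} {f : Fin c → R} (h : FSeq k f) : k.Seq R (List.ofFn f) := by
  cases k with
  | regular => exact h.elim
  | koszul => exact h
  | h1 => exact (seq_get_ofFn f).2 h
  | quasi => exact (seq_get_ofFn f).1 h

theorem FSeq.cast {c c' : ℕ} (hc : c' = c) {f : Fin c → R} (h : FSeq k f) : FSeq k (f ∘ Fin.cast hc) := by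
  subst hc; exact h

theorem FSeq.map {c : ℕ} {f : Fin c → R} (h : FSeq k f) (φ : R →+* S) (hφ : φ.Flat) : FSeq k (φ ∘ f) := by
  cases k with
  | regular => exact h
  | koszul =>
    have := GrothLib.KoszulColon.isKoszulRegularSeq_map φ hφ _ h
    rw [List.map_ofFn] at this
    exact this
  | h1 => exact SeqKinds.isH1Regular_map φ hφ f h
  | quasi => exact SeqKinds.isQuasiRegular_map φ hφ f h

theorem FSeq.mulVec {c : ℕ} {f : Fin c → R} (h : FSeq k f) (T : Matrix (Fin c) (Fin c) R) (hT : IsUnit T.det) :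
    FSeq k (T.mulVec f) := by
  cases k with
  | regular => exact h
  | koszul => exact LCI6.isKoszulRegularSeq_mulVec T hT f h
  | h1 => exact isH1Regular_mulVec T hT h
  | quasi => exact QReg26.isQuasiRegular_of_span_eq f _ h (span_mulVec T hT f)

end FSeq

/-- Sequences on a smaller basic open of a chart. -/
theorem exists_fSeq_basicOpen {k : RegImm.Kind} {Z Y : Scheme.{u}} (i : Z ⟶ Y) {U : Y.Opens} (hU : IsAffineOpen U)
    (hci : IsClosedImmersion (i ∣_ U))
    (h : ∃ (c : ℕ) (f : Fin c → Γ(Y, U)), FSeq k f ∧ Ideal.span (Set.range f) = RingHom.ker (i.app U).hom)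
    (g : Γ(Y, U)) (W : Y.Opens) (hW : W = Y.basicOpen g) :
    ∃ (c : ℕ) (f : Fin c → Γ(Y, W)), FSeq k f ∧ Ideal.span (Set.range f) = RingHom.ker (i.app W).hom := by
  subst hW
  obtain ⟨c, f, hf, hs⟩ := h
  refine ⟨c, _, hf.map _ (flat_res_basicOpen hU g), ?_⟩
  rw [(chart_basicOpen i hU hci g).2, ← hs, Ideal.map_span, ← Set.range_comp]

theorem exists_fSeq_of_at {k : RegImm.Kind} (hk : k ≠ .regular) {Z Y : Scheme.{u}} (i : Z ⟶ Y) (z : Z)
    (h : RegImm.IsRegularImmersionAt k i z) :
    ∃ U : Y.Opens, IsAffineOpen U ∧ i z ∈ U ∧ IsClosedImmersion (i ∣_ U) ∧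
      ∃ (c : ℕ) (f : Fin c → Γ(Y, U)), FSeq k f ∧ Ideal.span (Set.range f) = RingHom.ker (i.app U).hom := by
  obtain ⟨U, hz, hci, rs, hrs, hker⟩ := h
  exact ⟨U.1, U.2, hz, hci, rs.length, rs.get, fSeq_of_seq hk rs hrs, by rw [hker, Set.range_list_get]⟩

end GrothLib.RegDesc3
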