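import Groth.Agent.Lib.RegDesc3.Local
import Groth.Agent.Lib.RegImm12.Descend
import Groth.Agent.Lib.RegSeqLoc.AnyBaseChange
import Groth.Agent.Lib.LCI6.LocusScheme

/-!
# fpqc descent of Koszul, `H₁` and quasi regular immersions
-/

set_option autoImplicit false
set_option linter.all false
set_option maxHeartbeats 1000000
set_option backward.isDefEq.respectTransparency false
set_option backward.isDefEq.respectTransparency.types false
universe u

open CategoryTheory CategoryTheory.Limits AlgebraicGeometry TopologicalSpace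

namespace GrothLib.RegDesc3

variable {k : RegImm.Kind}

/-- Regularity of an immersion at every point gives regularity of its ideal on every chart. -/
theorem kAt_of_isRegularImmersion {Z X : Scheme.{u}} (hk : k ≠ .regular) (i : Z ⟶ X)
    (h : ∀ z, RegImm.IsRegularImmersionAt k i z) {W : X.Opens} (hW : IsAffineOpen W)
    (hci : IsClosedImmersion (i ∣_ W)) (q : Ideal Γ(X, W)) [q.IsPrime]
    (hq : RingHom.ker (i.app W).hom ≤ q) : KAt k (RingHom.ker (i.app W).hom) q := by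
  classical
  obtain ⟨hsurj, hW'⟩ := GrothLib.RegSeqLoc.app_surjective_of_restrict i hW hci
  haveI hq' : (q.map (i.app W).hom).IsPrime := Ideal.map_isPrime_of_surjective hsurj hq
  have hcomap : (q.map (i.app W).hom).comap (i.app W).hom = q := by
    rw [Ideal.comap_map_of_surjective' _ hsurj, sup_eq_left.mpr hq]
  let z : Z := hW'.fromSpec ⟨q.map (i.app W).hom, hq'⟩
  have hzW : z ∈ i ⁻¹ᵁ W := hW'.range_fromSpec.le ⟨_, rfl⟩
  have hzq : (hW.primeIdealOf ⟨i z, hzW⟩).asIdeal = q := by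
    have h1 := IsAffineOpen.comap_primeIdealOf_appLE W hW (i ⁻¹ᵁ W) hW' le_rfl hzW
    have h2 : hW'.primeIdealOf ⟨z, hzW⟩ = ⟨q.map (i.app W).hom, hq'⟩ :=
      hW'.fromSpec.isOpenEmbedding.injective (hW'.fromSpec_primeIdealOf ⟨z, hzW⟩)
    rw [h2, ← Scheme.Hom.app_eq_appLE] at h1
    exact (congrArg PrimeSpectrum.asIdeal h1).symm.trans hcomap
  obtain ⟨U, hU, hzU, hciU, c, f, hf, hs⟩ := exists_fSeq_of_at hk i z (h z)
  obtain ⟨a, b, hab, hza⟩ := exists_basicOpen_le_affine_inter hW hU (i z) ⟨hzW, hzU⟩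
  obtain ⟨c', f', hf', hs'⟩ := exists_fSeq_basicOpen i hU hciU ⟨c, f, hf, hs⟩ b (X.basicOpen a) hab
  haveI := hW.isLocalization_basicOpen a
  refine KAt.of_model a ?_ Γ(X, X.basicOpen a) f' hf' ?_
  · rw [← hzq]
    exact (GrothLib.LCI6.mem_basicOpen_iff_notMem hW hzW a).1 hza
  · rw [hs', (GrothLib.RegImm12.chart_basicOpen i hW hci a).2]
    rfl

/-- Regularity of the ideal at the prime of a point gives regularity at that point. -/
theorem isRegularImmersionAt_of_kAt {Z X : Scheme.{u}} (i : Z ⟶ X) (z : Z) {U : X.Opens} (hU : IsAffineOpen U)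
    (hzU : i z ∈ U) (hci : IsClosedImmersion (i ∣_ U))
    (h : KAt k (RingHom.ker (i.app U).hom) (hU.primeIdealOf ⟨i z, hzU⟩).asIdeal) :
    RegImm.IsRegularImmersionAt k i z := by
  obtain ⟨g, hg, c, f, hf, hI⟩ := h
  haveI := hU.isLocalization_basicOpen g
  let θ : Localization.Away g ≃ₐ[Γ(X, U)] Γ(X, X.basicOpen g) := IsLocalization.algEquiv (Submonoid.powers g) _ _
  obtain ⟨hci', hker⟩ := GrothLib.RegImm12.chart_basicOpen i hU hci g
  refine ⟨⟨X.basicOpen g, hU.basicOpen g⟩, (GrothLib.LCI6.mem_basicOpen_iff_notMem hU hzU g).2 hg, hci',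
    List.ofFn (θ.toRingEquiv.toRingHom ∘ f),
    seq_of_fSeq (hf.map _ (RingHom.Flat.of_bijective θ.bijective)), ?_⟩
  rw [hker, GrothLib.LCI6.ofList_ofFn, Set.range_comp, ← Ideal.map_span, ← hI, Ideal.map_map]
  congr 1
  exact RingHom.ext fun x => (θ.commutes x).symm

/-- fpqc descent. -/
theorem main {Z X X' : Scheme.{u}} (i : Z ⟶ X) [IsImmersion i] (g : X' ⟶ X)
    [Flat g] [Surjective g] [QuasiCompact g] (hk : k ≠ .regular)
    (h : RegImm.IsRegularImmersion k (pullback.snd i g)) :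
    RegImm.IsRegularImmersion k i := by
  classical
  refine ⟨‹_›, fun z => ?_⟩
  obtain ⟨U, hzU, hci⟩ := GrothLib.RegSeqLoc.exists_affine_isClosedImmersion i z
  obtain ⟨t, ht⟩ := (QuasiCompact.isCompact_preimage (f := g) _ U.1.2 U.2.isCompact).elim_finite_subcover
    (fun W : {W : X'.affineOpens // W.1 ≤ g ⁻¹ᵁ U.1} => (W.1.1 : Set X')) (fun W => W.1.1.2) fun s hs => by
      obtain ⟨W, hW, hsW, hWV⟩ := TopologicalSpace.Opens.isBasis_iff_nbhd.mp (Scheme.isBasis_affineOpens X')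
        (show s ∈ (g ⁻¹ᵁ U.1 : X'.Opens) from hs)
      exact Set.mem_iUnion.mpr ⟨⟨⟨W, hW⟩, hWV⟩, hsW⟩
  let W : ↥t → X'.Opens := fun i => i.1.1.1
  have hW : ∀ i, IsAffineOpen (W i) := fun i => i.1.1.2
  have hWU : ∀ i, W i ≤ g ⁻¹ᵁ U.1 := fun i => i.1.2
  letI : ∀ i, Algebra Γ(X, U.1) Γ(X', W i) := fun i => (g.appLE U.1 (W i) (hWU i)).hom.toAlgebra
  haveI : ∀ i, Module.Flat Γ(X, U.1) Γ(X', W i) := fun i =>
    HasRingHomProperty.appLE @Flat g inferInstance ⟨U.1, U.2⟩ ⟨W i, hW i⟩ (hWU i)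
  refine isRegularImmersionAt_of_kAt i z U.2 hzU hci (kAt_of_flat_cover hk (fun j : ↥t => Γ(X', W j))
    (fun p hp => ?_) (fun j q hq hle => ?_) _ ?_)
  · obtain ⟨s', hs'⟩ := g.surjective (U.2.fromSpec ⟨p, hp⟩)
    have hsV : g s' ∈ U.1 := hs' ▸ (U.2.range_fromSpec ▸ Set.mem_range_self _ : U.2.fromSpec ⟨p, hp⟩ ∈ (U.1 : Set X))
    obtain ⟨j, hj, hsW⟩ : ∃ j ∈ t, s' ∈ (j.1.1 : Set X') := by
      obtain ⟨j, hjt, hsj⟩ := Set.mem_iUnion₂.mp (ht (show s' ∈ g ⁻¹' (U.1 : Set X) from hsV))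
      exact ⟨j, hjt, hsj⟩
    refine ⟨⟨j, hj⟩, ((hW ⟨j, hj⟩).primeIdealOf ⟨s', hsW⟩).asIdeal, PrimeSpectrum.isPrime _, ?_⟩
    have h1 := IsAffineOpen.comap_primeIdealOf_appLE U.1 U.2 (W ⟨j, hj⟩) (hW ⟨j, hj⟩) (hWU ⟨j, hj⟩) hsW
    have h2 : U.2.primeIdealOf ⟨g s', hsV⟩ = ⟨p, hp⟩ :=
      U.2.fromSpec.isOpenEmbedding.injective ((U.2.fromSpec_primeIdealOf ⟨g s', hsV⟩).trans hs')
    exact congrArg PrimeSpectrum.asIdeal (h1.trans h2)
  · obtain ⟨hci', hker⟩ := GrothLib.RegSeqLoc.ker_of_isPullback (IsPullback.of_hasPullback i g) U hci (hW j) (hWU j)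
    have e : (RingHom.ker (i.app U.1).hom).map (algebraMap Γ(X, U.1) Γ(X', W j)) =
        RingHom.ker ((pullback.snd i g).app (W j)).hom := hker.symm
    rw [e] at hle ⊢
    haveI := hq
    exact kAt_of_isRegularImmersion hk _ h.2 (hW j) hci' q hle
  · intro x hx
    by_contra hxp
    have hmem : z ∈ i ⁻¹ᵁ (X.basicOpen x) := (GrothLib.LCI6.mem_basicOpen_iff_notMem U.2 hzU x).2 hxp
    rw [Scheme.preimage_basicOpen, show i.app U.1 x = 0 from hx, Scheme.basicOpen_zero] at hmem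
    exact hmem

end GrothLib.RegDesc3
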